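import Cfsg.Agent.H729.Lim.TvTools
import Cfsg.Agent.H71.Lim.COne
import Cfsg.Agent.H815.Lim.Vertex

/-!
# S5242, [C4b]: case S (helper729)
-/

set_option autoImplicit false

namespace Cfsg.Agent.H729.Lim

open MulAction Cfsg.Agent.H539.Lim

universe u v w

theorem to71 {G : Type*} [Group G] {D : Type*} [AddCommGroup D] [DistribMulAction G D] {a : G}
    {f : D →+ ZMod 2} {z : D} (h : Tv a f z) : Cfsg.Agent.H71.Lim.Tv a f z :=
  ⟨h.ne_one, h.sq, h.z_ne, h.two_z, h.f_ne, h.fz, h.act⟩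

variable {G : Type u} [Group G] [Finite G] {Ω : Type v} [MulAction G Ω] [Finite Ω] {D : Type w} [AddCommGroup D]
  [DistribMulAction G D] [Finite D]

/-- case S (two transvections with the same functional in `G_x`) -/
theorem caseS {Ω₀ : Finset Ω} (h0 : Orb2 G Ω₀) {c : Ω → Ω → D} (hc : Coc2 G Ω₀ c)
    (h2 : ∀ x ∈ Ω₀, ∀ y ∈ Ω₀, 2 • c x y = 0)
    (hs : ∀ x ∈ Ω₀, ∀ y ∈ Ω₀, stabilizer G x ⊓ stabilizer G y ∈ Qs G D → c x y = 0)
    (hfaith : ∀ x ∈ Ω₀, ∀ g ∈ stabilizer G x, (∀ d : D, g • d = d) → g = 1)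
    {x : Ω} (hx : x ∈ Ω₀) {b d : G} {f : D →+ ZMod 2} {t t' : D} (hb : Tv b f t) (hd : Tv d f t') (hbd : b ≠ d)
    (hbx : b • x = x) (hdx : d • x = x) {a : G} {g : D →+ ZMod 2} {z : D} (ha : Tv a g z) (hax : a • x = x) :
    Vv Ω₀ c a x = 0 ∨ Vv Ω₀ c a x = z := by
  have hP : IsPGroup 2 (stabilizer G x) := by
    obtain ⟨S, hS⟩ := h0.sylow x hx
    rw [← hS]
    exact S.isPGroup'
  exact caseS_aux hP (hfaith x hx)
    (fun hax A hA hA1 hAB hAg hcomm => Cfsg.Agent.H815.Lim.Vv_eq_zero h0 hc h2 hs hx hax hA hA1 hAB hAg hcomm)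
    (fun ha hb hab hax hbx => Cfsg.Agent.H815.Lim.Vv_pair h0 hc h2 ha hb hab hx hax hbx)
    (fun ha hb hab hne hf => Cfsg.Agent.H71.Lim.bo_same_axis (to71 ha) (to71 hb) hab hne hf) hb hd hbd hbx hdx ha hax

end Cfsg.Agent.H729.Lim
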