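import Cfsg.Agent.H539.Lim.DefsC

/-!
# S5242, [C4b]: transvections, case S (helper729)
-/

set_option autoImplicit false

namespace Cfsg.Agent.H729.Lim

open MulAction Cfsg.Agent.H539.Lim

universe u v w

section tv

variable {G : Type*} [Group G] {D : Type*} [AddCommGroup D] [DistribMulAction G D]

theorem z2 (x : ZMod 2) : x = 0 ∨ x = 1 := by
  revert x
  decide

theorem val_cases {x : ZMod 2} (z : D) : (x = 0 ∧ x.val • z = 0) ∨ (x = 1 ∧ x.val • z = z) := by
  rcases z2 x with rfl | rfl
  · left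
    exact ⟨rfl, by rw [ZMod.val_zero, zero_smul]⟩
  · right
    exact ⟨rfl, by rw [ZMod.val_one, one_smul]⟩

variable {a b : G} {f g : D →+ ZMod 2} {z t : D}

theorem tv_inv_eq (ha : Tv a f z) : a⁻¹ = a := inv_eq_of_mul_eq_one_left ha.sq

theorem tv_act0 (ha : Tv a f z) {d : D} (h : f d = 0) : a • d = d := by
  rw [ha.act, h, ZMod.val_zero, zero_smul, add_zero]

theorem tv_act1 (ha : Tv a f z) {d : D} (h : f d = 1) : a • d = d + z := by
  rw [ha.act, h, ZMod.val_one, one_smul]

theorem tv_smul_z (ha : Tv a f z) : a • z = z := (tv_act0 ha) ha.fz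

/-- a functional killing the centre is invariant -/
theorem tv_inv_fun (ha : Tv a f z) (h : g z = 0) (d : D) : g (a • d) = g d := by
  rw [ha.act, map_add, map_nsmul, h, smul_zero, add_zero]

theorem tv_conj' (hb : Tv b g t) (x : G) (h : ∀ d : D, g (x⁻¹ • d) = g d) : Tv (x * b * x⁻¹) g (x • t) where
  ne_one := fun h1 => hb.ne_one (by
    have : b = x⁻¹ * (x * b * x⁻¹) * x := by group
    rw [this, h1]
    group)
  sq := by
    calc x * b * x⁻¹ * (x * b * x⁻¹) = x * (b * b) * x⁻¹ := by group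
      _ = 1 := by rw [hb.sq]; group
  z_ne := fun h1 => hb.z_ne (by
    have h2 : x⁻¹ • x • t = x⁻¹ • (0 : D) := by rw [h1]
    rwa [inv_smul_smul, smul_zero] at h2)
  two_z := by rw [← smul_add, hb.two_z, smul_zero]
  f_ne := hb.f_ne
  fz := by
    rw [← h, inv_smul_smul]
    exact hb.fz
  act := by
    intro d
    rw [mul_smul, mul_smul, hb.act, smul_add, smul_inv_smul, h, smul_comm x]

theorem tv_conj_tv (ha : Tv a f z) (hb : Tv b g t) (h1 : f t = 1) (h2 : g z = 0) :
    Tv (a * b * a⁻¹) g (t + z) := by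
  have h := (tv_conj' hb) a (fun d => by rw [(tv_inv_eq ha)]; exact (tv_inv_fun ha) h2 d)
  rwa [(tv_act1 ha) h1] at h

variable {P : Subgroup G}

theorem eq_of_act (hfaith : ∀ g ∈ P, (∀ d : D, g • d = d) → g = 1) (ha : a ∈ P) (hb : b ∈ P)
    (h : ∀ d : D, a • d = b • d) : a = b := by
  have h1 := hfaith (b⁻¹ * a) (mul_mem (inv_mem hb) ha) (fun d => by rw [mul_smul, h, inv_smul_smul])
  rw [inv_mul_eq_one] at h1
  exact h1.symm

/-- transvections killing each other's centres commute -/
theorem comm_of (hfaith : ∀ g ∈ P, (∀ d : D, g • d = d) → g = 1) (haP : a ∈ P) (hbP : b ∈ P) (ha : Tv a f z)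
    (hb : Tv b g t) (h1 : f t = 0) (h2 : g z = 0) : a * b = b * a := by
  refine eq_of_act hfaith (mul_mem haP hbP) (mul_mem hbP haP) fun d => ?_
  rw [mul_smul, mul_smul, hb.act, ha.act d, smul_add, smul_add, smul_comm a, smul_comm b, (tv_act0 ha) h1, (tv_act0 hb) h2,
    ha.act, hb.act]
  abel

/-- two non-commuting transvections of a 2-group -/
theorem dicho (hP : IsPGroup 2 P) (hfaith : ∀ g ∈ P, (∀ d : D, g • d = d) → g = 1) (haP : a ∈ P) (hbP : b ∈ P)
    (ha : Tv a f z) (hb : Tv b g t) (hab : a * b ≠ b * a) : (f t = 1 ∧ g z = 0) ∨ (f t = 0 ∧ g z = 1) := by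
  rcases z2 (f t) with h1 | h1 <;> rcases z2 (g z) with h2 | h2
  · exact (hab (comm_of hfaith haP hbP ha hb h1 h2)).elim
  · exact Or.inr ⟨h1, h2⟩
  · exact Or.inl ⟨h1, h2⟩
  · exfalso
    -- `a b` permutes `z, t, t + z`
    have c1 : (a * b) • z = t := by
      rw [mul_smul, (tv_act1 hb) h2, smul_add, (tv_smul_z ha), (tv_act1 ha) h1, add_left_comm, ha.two_z, add_zero]
    have c2 : (a * b) • t = t + z := by
      rw [mul_smul, (tv_smul_z hb), (tv_act1 ha) h1]
    have c3 : (a * b) • (t + z) = z := by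
      rw [smul_add, c1, c2, add_right_comm, hb.two_z, zero_add]
    have hzt : t ≠ z := by
      intro h
      rw [h, ha.fz] at h1
      exact zero_ne_one h1
    have hzt2 : t + z ≠ z := by
      intro h
      exact hb.z_ne (by simpa using h)
    have c4 : (a * b) ^ 3 • z = z := by
      rw [pow_succ, pow_succ, pow_one, mul_smul, mul_smul, c1, c2, c3]
    have c5 : ∀ q : ℕ, ((a * b) ^ 3) ^ q • z = z := by
      intro q
      induction q with
      | zero => rw [pow_zero, one_smul]
      | succ q ih => rw [pow_succ, mul_smul, c4, ih]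
    obtain ⟨k, hk⟩ := hP ⟨a * b, mul_mem haP hbP⟩
    have hk' : (a * b) ^ 2 ^ k = 1 := by
      have := congrArg Subtype.val hk
      simpa using this
    have h3 : ¬ 3 ∣ 2 ^ k := by
      intro h
      have := (Nat.prime_three.dvd_of_dvd_pow h)
      omega
    have h4 : 2 ^ k = 3 * (2 ^ k / 3) + 2 ^ k % 3 := (Nat.div_add_mod _ _).symm
    have h5 : 2 ^ k % 3 = 1 ∨ 2 ^ k % 3 = 2 := by omega
    rw [h4, add_comm, pow_add, pow_mul] at hk'
    have h6 : (a * b) ^ (2 ^ k % 3) • z = z := by
      have h7 : ((a * b) ^ (2 ^ k % 3) * ((a * b) ^ 3) ^ (2 ^ k / 3)) • z = z := by rw [hk', one_smul]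
      rwa [mul_smul, c5] at h7
    rcases h5 with h5 | h5
    · rw [h5, pow_one, c1] at h6
      exact hzt h6
    · rw [h5, pow_two, mul_smul, c1, c2] at h6
      exact hzt2 h6

end tv

section main

variable {G : Type u} [Group G] {Ω : Type v} [MulAction G Ω] {D : Type w} [AddCommGroup D] [DistribMulAction G D]

/-- two non-commuting transvections in a faithful 2-group give two transvections with the same functional -/
theorem exists_same_of_not_commute {P : Subgroup G} (hP : IsPGroup 2 P) (hfaith : ∀ g ∈ P, (∀ d : D, g • d = d) → g = 1)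
    {a b : G} (haP : a ∈ P) (hbP : b ∈ P) {f g : D →+ ZMod 2} {z t : D} (ha : Tv a f z) (hb : Tv b g t)
    (hab : a * b ≠ b * a) : ∃ a' ∈ P, ∃ b' ∈ P, ∃ (f' : D →+ ZMod 2) (z' t' : D), Tv a' f' z' ∧ Tv b' f' t' ∧ a' ≠ b' := by
  rcases dicho hP hfaith haP hbP ha hb hab with ⟨h1, h2⟩ | ⟨h1, h2⟩
  · refine ⟨a * b * a⁻¹, mul_mem (mul_mem haP hbP) (inv_mem haP), b, hbP, g, t + z, t, (tv_conj_tv ha) hb h1 h2, hb, ?_⟩
    intro h
    exact hab (mul_inv_eq_iff_eq_mul.1 h)
  · refine ⟨b * a * b⁻¹, mul_mem (mul_mem hbP haP) (inv_mem hbP), a, haP, f, z + t, z, (tv_conj_tv hb) ha h2 h1, ha, ?_⟩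
    intro h
    exact hab (mul_inv_eq_iff_eq_mul.1 h).symm

/-- case S, from C4a and `bo_same_axis` -/
theorem caseS_aux {Ω₀ : Finset Ω} {c : Ω → Ω → D} {x : Ω} (hP : IsPGroup 2 (stabilizer G x))
    (hfaith : ∀ g ∈ stabilizer G x, (∀ d : D, g • d = d) → g = 1)
    (hzero : ∀ {a : G}, a • x = x → ∀ {A : Subgroup G}, A ≤ stabilizer G x → A ≠ ⊥ → BO D A → NGood 2 D A →
      (∀ b ∈ A, a * b = b * a) → Vv Ω₀ c a x = 0)
    (hpair : ∀ {a b : G} {f g : D →+ ZMod 2} {z t : D}, Tv a f z → Tv b g t → a * b = b * a → a • x = x → b • x = x →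
      ∃ i j : ℕ, Vv Ω₀ c a x + Vv Ω₀ c b x = i • z + j • t)
    (hbo : ∀ {a b : G} {f : D →+ ZMod 2} {z t : D}, Tv a f z → Tv b f t → a * b = b * a → a ≠ b →
      (∀ g ∈ Subgroup.closure {a, b}, (∀ d : D, g • d = d) → g = 1) →
      BO D (Subgroup.closure {a, b}) ∧ NGood 2 D (Subgroup.closure {a, b}) ∧ z ≠ t)
    {b d : G} {f : D →+ ZMod 2} {t t' : D} (hb : Tv b f t) (hd : Tv d f t') (hbd : b ≠ d)
    (hbx : b • x = x) (hdx : d • x = x) {a : G} {g : D →+ ZMod 2} {z : D} (ha : Tv a g z) (hax : a • x = x) :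
    Vv Ω₀ c a x = 0 ∨ Vv Ω₀ c a x = z := by
  -- two transvections with the same functional
  have key : ∀ {b d : G} {f : D →+ ZMod 2} {t t' : D}, Tv b f t → Tv d f t' → b ≠ d → b • x = x → d • x = x →
      b * d = d * b ∧ Subgroup.closure {b, d} ≤ stabilizer G x ∧ Subgroup.closure {b, d} ≠ ⊥ ∧
      BO D (Subgroup.closure {b, d}) ∧ NGood 2 D (Subgroup.closure {b, d}) := by
    intro b d f t t' hb hd hbd hbx hdx
    have hc := comm_of hfaith (P := stabilizer G x) hbx hdx hb hd hd.fz hb.fz
    have hle : Subgroup.closure {b, d} ≤ stabilizer G x := by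
      rw [Subgroup.closure_le]
      rintro y (rfl | rfl)
      · exact hbx
      · exact hdx
    obtain ⟨h1, h2, -⟩ := hbo hb hd hc hbd (fun g hg => hfaith g (hle hg))
    refine ⟨hc, hle, ?_, h1, h2⟩
    intro h
    have h3 : b ∈ Subgroup.closure {b, d} := Subgroup.subset_closure (Or.inl rfl)
    rw [h, Subgroup.mem_bot] at h3
    exact hb.ne_one h3
  have comm_cl : ∀ {a b d : G}, a * b = b * a → a * d = d * a → ∀ y ∈ Subgroup.closure {b, d}, a * y = y * a := by
    intro a b d h1 h2 y hy
    have hle : Subgroup.closure {b, d} ≤ Subgroup.centralizer {a} := by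
      rw [Subgroup.closure_le]
      rintro y (rfl | rfl)
      · exact Subgroup.mem_centralizer_singleton_iff.2 h1.symm
      · exact Subgroup.mem_centralizer_singleton_iff.2 h2.symm
    exact (Subgroup.mem_centralizer_singleton_iff.1 (hle hy)).symm
  -- the main step
  have main : ∀ {e : G} {t : D}, Tv e f t → e • x = x → a * e ≠ e * a → Vv Ω₀ c a x = 0 ∨ Vv Ω₀ c a x = z := by
    intro e t he hex hae
    rcases dicho hP hfaith (P := stabilizer G x) hax hex ha he hae with ⟨h1, h2⟩ | ⟨h1, h2⟩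
    · -- `g t = 1`, `f z = 0`
      have he' := (tv_conj_tv ha) he h1 h2
      have hex' : (a * e * a⁻¹) • x = x := mul_mem (mul_mem (show a ∈ stabilizer G x from hax)
        (show e ∈ stabilizer G x from hex)) (inv_mem (show a ∈ stabilizer G x from hax))
      have hne : e ≠ a * e * a⁻¹ := by
        intro h
        exact hae (mul_inv_eq_iff_eq_mul.1 h.symm)
      obtain ⟨hc, hle, hbot, hBO, hNG⟩ := key he he' hne hex hex'
      -- `δ = e e'`
      have hδ : Tv (e * (a * e * a⁻¹)) f z := by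
        refine ⟨?_, ?_, ha.z_ne, ha.two_z, he.f_ne, h2, ?_⟩
        · intro h
          apply hne
          rw [mul_eq_one_iff_eq_inv, (tv_inv_eq he')] at h
          exact h
        · generalize a * e * a⁻¹ = e' at *
          calc e * e' * (e * e') = e * (e' * e) * e' := by group
            _ = (e * e) * (e' * e') := by rw [← hc]; group
            _ = 1 := by rw [he.sq, he'.sq, one_mul]
        · intro v
          rw [mul_smul, he'.act, smul_add, smul_comm e, smul_add, (tv_smul_z he), (tv_act0 he) h2, he.act]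
          rcases val_cases (x := f v) z with ⟨h3, -⟩ | ⟨h3, -⟩
          · rw [h3, ZMod.val_zero, zero_smul, zero_smul, zero_smul, add_zero, add_zero]
          · rw [h3, ZMod.val_one, one_smul, one_smul, one_smul]
            calc v + t + (t + z) = v + z + (t + t) := by abel
              _ = v + z := by rw [he.two_z, add_zero]
      have hδx : (e * (a * e * a⁻¹)) • x = x := mul_mem (show e ∈ stabilizer G x from hex) hex'
      have hV : Vv Ω₀ c (e * (a * e * a⁻¹)) x = 0 := by
        refine hzero hδx hle hbot hBO hNG ?_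
        apply comm_cl
        · generalize a * e * a⁻¹ = e' at *
          calc e * e' * e = e * (e' * e) := by group
            _ = e * (e * e') := by rw [← hc]
        · generalize a * e * a⁻¹ = e' at *
          calc e * e' * e' = e' * e * e' := by rw [hc]
            _ = e' * (e * e') := mul_assoc _ _ _
      have hca : a * (e * (a * e * a⁻¹)) = (e * (a * e * a⁻¹)) * a :=
        comm_of hfaith (P := stabilizer G x) hax hδx ha hδ ha.fz h2
      obtain ⟨i, j, hij⟩ := hpair ha hδ hca hax hδx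
      rw [hV, add_zero, ← add_smul] at hij
      rw [hij]
      rcases Nat.even_or_odd' (i + j) with ⟨k, hk | hk⟩
      · left
        rw [hk, mul_smul, two_smul, ← smul_add, ha.two_z, smul_zero]
      · right
        rw [hk, add_smul, mul_smul, two_smul, ← smul_add, ha.two_z, smul_zero, zero_add, one_smul]
    · -- `g t = 0`, `f z = 1`
      left
      have ha' := (tv_conj_tv he) ha h2 h1
      have hax' : (e * a * e⁻¹) • x = x := mul_mem (mul_mem (show e ∈ stabilizer G x from hex)
        (show a ∈ stabilizer G x from hax)) (inv_mem (show e ∈ stabilizer G x from hex))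
      have hne : a ≠ e * a * e⁻¹ := by
        intro h
        exact hae (mul_inv_eq_iff_eq_mul.1 h.symm).symm
      obtain ⟨hc, hle, hbot, hBO, hNG⟩ := key ha ha' hne hax hax'
      exact hzero hax hle hbot hBO hNG (comm_cl rfl hc)
  by_cases h1 : a * b = b * a
  · by_cases h2 : a * d = d * a
    · left
      obtain ⟨hc, hle, hbot, hBO, hNG⟩ := key hb hd hbd hbx hdx
      exact hzero hax hle hbot hBO hNG (comm_cl h1 h2)
    · exact main hd hdx h2
  · exact main hb hbx h1

end main

end Cfsg.Agent.H729.Lim
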